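import Groth.Agent.Lib.RelProjK.Amp
import Groth.Agent.Lib.RelProjK.FinType
import Groth.Agent.S8260
import Groth.Agent.Lib.RelProjK.Twist
import Groth.Agent.S8336
import Groth.Agent.Lib.CounitLim8.Basic

/-! # Relative twists as powers of `O(1)` -/

set_option autoImplicit false
set_option linter.all false
set_option backward.isDefEq.respectTransparency false
set_option maxHeartbeats 1000000
universe u

open CategoryTheory AlgebraicGeometry TopologicalSpace Opposite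

noncomputable section

namespace GrothLib.RelTwistPow8

variable {Y P : Scheme.{u}} {𝒮 : RelProj.QCGrAlg Y} {p : P ⟶ Y}
  {chart : ∀ (U : Y.Opens) (hU : IsAffineOpen U), (((p ⁻¹ᵁ U : P.Opens) : Scheme.{u}) ≅ Proj (𝒮.deg U hU))}

theorem quasiCompact_p (hP : RelProj.IsRelProj 𝒮 p chart) (hgen : 𝒮.IsGenDegOne) (hft : 𝒮.IsFTDeg 1) :
    QuasiCompact p := by
  refine RelProjK.property_of_charts @QuasiCompact hP fun U hU => ?_
  obtain ⟨T, -, hT⟩ := hft U hU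
  haveI := RelProjK.finiteType_algebra_of_deg_one (𝒮.strZero U hU).hom (hgen U hU) T fun x hx => hT x hx
  infer_instance

theorem isRelAmple_one (hP : RelProj.IsRelProj 𝒮 p chart) (hgen : 𝒮.IsGenDegOne) (hft : 𝒮.IsFTDeg 1)
    {O1 : P.Modules} {lam : ∀ (U : Y.Opens) (hU : IsAffineOpen U),
      O1 ⟶ (Scheme.Modules.pushforward (RelProj.emb p chart U hU)).obj (GrTwist.twist (𝒮.deg U hU) 1)}
    (hO1 : RelProj.IsRelTwist 𝒮 p chart 1 O1 lam) : RelAmple.IsRelAmple p O1 := by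
  haveI := quasiCompact_p hP hgen hft
  exact RelProjK.isRelAmple_of_iso ((Scheme.Modules.pullbackId P).app O1).symm
    (RelProjK.isRelAmple_pullback_of_isEmbedding hgen hO1 p (𝟙 P) (Category.id_comp _)
      Topology.IsEmbedding.id)

/-- `O(n)` is the `n`-th power of `O(1)` for positive `n`. -/
theorem nonempty_pow_iso (hP : RelProj.IsRelProj 𝒮 p chart) (hgen : 𝒮.IsGenDegOne)
    {O1 : P.Modules} {lam : ∀ (U : Y.Opens) (hU : IsAffineOpen U),
      O1 ⟶ (Scheme.Modules.pushforward (RelProj.emb p chart U hU)).obj (GrTwist.twist (𝒮.deg U hU) 1)}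
    (hO1 : RelProj.IsRelTwist 𝒮 p chart 1 O1 lam) (m : ℕ) (L : P.Modules)
    (lamL : ∀ (U : Y.Opens) (hU : IsAffineOpen U),
      L ⟶ (Scheme.Modules.pushforward (RelProj.emb p chart U hU)).obj (GrTwist.twist (𝒮.deg U hU) ((m + 1 : ℕ) : ℤ)))
    (hL : RelProj.IsRelTwist 𝒮 p chart ((m + 1 : ℕ) : ℤ) L lamL) :
    Nonempty (CohB1.tensorPow O1 (m + 1) ≅ L) := by
  induction m generalizing L with
  | zero =>
    obtain ⟨L2, lam2, h2⟩ := RelProjK.exists_isRelTwist (chart := chart) hP ((1 : ℤ) + 1)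
    obtain ⟨a⟩ := Groth.Agent.S8336.result 𝒮 p chart hP hgen 1 1 L lamL hL O1 lam hO1 L2 lam2 h2
    obtain ⟨b⟩ := Groth.Agent.S8336.result 𝒮 p chart hP hgen 1 1 O1 lam hO1 O1 lam hO1 L2 lam2 h2
    obtain ⟨K, hK, ⟨d⟩⟩ := ResProp22.exists_inverse (RelProjK.isInvertible_of_isRelTwist hgen hO1)
    let G := Euler.tF K
    let back : ∀ M : P.Modules, G.obj (CohB1.tensorMod M O1) ≅ M := fun M =>
      OX.tensorAssoc M O1 K ≪≫ ((DCoh.tensorBi (X := P)).obj M).mapIso d ≪≫ Euler.tFUnitIso M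
    exact ⟨OX.tensorUnitLeftIso O1 ≪≫ (back O1).symm ≪≫ G.mapIso (b ≪≫ a.symm) ≪≫ back L⟩
  | succ m ih =>
    obtain ⟨L', lam', h'⟩ := RelProjK.exists_isRelTwist (chart := chart) hP ((m + 1 : ℕ) : ℤ)
    obtain ⟨a⟩ := ih L' lam' h'
    obtain ⟨b⟩ := RelProjK.nonempty_tensor_iso hP (show ((m + 1 : ℕ) : ℤ) + 1 = ((m + 1 + 1 : ℕ) : ℤ) by push_cast; ring)
      h' hO1 hL (RelProjK.exists_frac_chart p chart hgen 1)
    exact ⟨Ample.LineData.tensorModMapIso a (Iso.refl _) ≪≫ b⟩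

/-- `O(n) ⊗ O(-n)` is trivial. -/
theorem nonempty_tensor_neg (hP : RelProj.IsRelProj 𝒮 p chart) (hgen : 𝒮.IsGenDegOne) {n : ℤ}
    {L L' : P.Modules} {lam : ∀ (U : Y.Opens) (hU : IsAffineOpen U),
      L ⟶ (Scheme.Modules.pushforward (RelProj.emb p chart U hU)).obj (GrTwist.twist (𝒮.deg U hU) n)}
    (hL : RelProj.IsRelTwist 𝒮 p chart n L lam) {lam' : ∀ (U : Y.Opens) (hU : IsAffineOpen U),
      L' ⟶ (Scheme.Modules.pushforward (RelProj.emb p chart U hU)).obj (GrTwist.twist (𝒮.deg U hU) (-n))}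
    (hL' : RelProj.IsRelTwist 𝒮 p chart (-n) L' lam') :
    Nonempty (CohB1.tensorMod L L' ≅ Coh.structureModule P) := by
  obtain ⟨L0, lam0, h0⟩ := RelProjK.exists_isRelTwist (chart := chart) hP (0 : ℤ)
  obtain ⟨c⟩ := RelProjK.nonempty_tensor_iso hP (show n + -n = 0 by ring) hL hL' h0
    (RelProjK.exists_frac_chart p chart hgen (-n))
  obtain ⟨a⟩ := RelProjK.nonempty_tensor_iso hP (show (0 : ℤ) + n = n by ring) h0 hL hL
    (RelProjK.exists_frac_chart p chart hgen n)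
  obtain ⟨K, hK, ⟨d⟩⟩ := ResProp22.exists_inverse (RelProjK.isInvertible_of_isRelTwist hgen hL)
  exact ⟨c ≪≫ (Euler.tFUnitIso L0).symm ≪≫ ((DCoh.tensorBi (X := P)).obj L0).mapIso d.symm ≪≫
    (OX.tensorAssoc L0 L K).symm ≪≫ (Euler.tF K).mapIso a ≪≫ d⟩

end GrothLib.RelTwistPow8
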